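import Mathlib

/-!
# Two-elements of symmetric groups in a unique Sylow 2-subgroup: necessity
-/

set_option autoImplicit false

namespace Cfsg.Agent.Lib.UniqueSylowPerm

open Equiv

variable {α : Type*}

/-- At most two fixed points, and distinct non-trivial cycles have distinct lengths. -/
def Good (x : Perm α) : Prop :=
  (∀ a b c, x a = a → x b = b → x c = c → a = b ∨ a = c ∨ b = c) ∧
  (∀ a b, x a ≠ a → x b ≠ b → MulAction.period x a = MulAction.period x b → x.SameCycle a b)

lemma zpow_apply_eq_iff (x : Perm α) (a : α) (k : ℤ) :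
    (x ^ k) a = a ↔ (MulAction.period x a : ℤ) ∣ k := by
  rw [← MulAction.zpow_smul_eq_iff_period_dvd, Perm.smul_def]

lemma zpow_apply_eq_zpow_iff (x : Perm α) (a : α) (u v : ℤ) :
    (x ^ u) a = (x ^ v) a ↔ (x ^ (u - v)) a = a := by
  rw [show u = v + (u - v) by ring, zpow_add, Perm.mul_apply, add_sub_cancel_left]
  exact (x ^ v).injective.eq_iff

/-- The hypotheses under which the half-cycles through `a` and `b` can be swapped. -/
structure CanSwap (x : Perm α) (a b : α) : Prop where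
  ne : ∀ k : ℤ, (x ^ k) a ≠ b
  per : ∀ k : ℤ, (x ^ k) a = a ↔ (x ^ k) b = b
  even : ∀ k : ℤ, (x ^ k) a = a → Even k

namespace CanSwap

variable {x : Perm α} {a b : α}

lemma transfer (h : CanSwap x a b) {u v : ℤ} (e : (x ^ u) a = (x ^ v) a) :
    (x ^ u) b = (x ^ v) b := by
  rw [zpow_apply_eq_zpow_iff] at e ⊢
  exact (h.per _).1 e

lemma transfer' (h : CanSwap x a b) {u v : ℤ} (e : (x ^ u) b = (x ^ v) b) :
    (x ^ u) a = (x ^ v) a := by
  rw [zpow_apply_eq_zpow_iff] at e ⊢
  exact (h.per _).2 e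

lemma ne' (h : CanSwap x a b) (u v : ℤ) : (x ^ u) a ≠ (x ^ v) b := by
  intro e
  apply h.ne (-v + u)
  rw [zpow_add, Perm.mul_apply, e, ← Perm.mul_apply, ← zpow_add, neg_add_cancel, zpow_zero,
    Perm.one_apply]

lemma parity (h : CanSwap x a b) (i j : ℤ) : (x ^ (2 * i)) a ≠ (x ^ (2 * j + 1)) a := by
  intro e
  rw [zpow_apply_eq_zpow_iff] at e
  obtain ⟨c, hc⟩ := h.even _ e
  omega

lemma symm (h : CanSwap x a b) : CanSwap x b a where
  ne k e := h.ne' 0 k (by simpa using e.symm)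
  per k := (h.per k).symm
  even k e := h.even k ((h.per k).2 e)

lemma map (h : CanSwap x a b) {g : Perm α} (hg : Commute g x) :
    CanSwap x (g a) (g b) := by
  have key : ∀ (k : ℤ) (c : α), (x ^ k) (g c) = g ((x ^ k) c) := fun k c => by
    rw [← Perm.mul_apply, ← (hg.zpow_right k).eq, Perm.mul_apply]
  exact
    { ne := fun k e => h.ne k (g.injective (by rw [← key]; exact e))
      per := fun k => by rw [key, key, g.injective.eq_iff, g.injective.eq_iff]; exact h.per k
      even := fun k e => h.even k (g.injective (by rw [← key]; exact e)) }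

open scoped Classical in
/-- The underlying function of `swapHalf`. -/
noncomputable def swapFun (x : Perm α) (a b : α) (z : α) : α :=
  if h : ∃ i : ℤ, (x ^ (2 * i)) a = z then (x ^ (2 * h.choose)) b
  else if h : ∃ i : ℤ, (x ^ (2 * i)) b = z then (x ^ (2 * h.choose)) a else z

lemma swapFun_left (h : CanSwap x a b) (i : ℤ) :
    swapFun x a b ((x ^ (2 * i)) a) = (x ^ (2 * i)) b := by
  have he : ∃ j : ℤ, (x ^ (2 * j)) a = (x ^ (2 * i)) a := ⟨i, rfl⟩
  rw [swapFun, dif_pos he]
  exact h.transfer he.choose_spec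

lemma swapFun_right (h : CanSwap x a b) (i : ℤ) :
    swapFun x a b ((x ^ (2 * i)) b) = (x ^ (2 * i)) a := by
  have hn : ¬ ∃ j : ℤ, (x ^ (2 * j)) a = (x ^ (2 * i)) b := fun ⟨j, e⟩ => h.ne' _ _ e
  have he : ∃ j : ℤ, (x ^ (2 * j)) b = (x ^ (2 * i)) b := ⟨i, rfl⟩
  rw [swapFun, dif_neg hn, dif_pos he]
  exact h.transfer' he.choose_spec

lemma swapFun_other (z : α) (h1 : ∀ i : ℤ, (x ^ (2 * i)) a ≠ z)
    (h2 : ∀ i : ℤ, (x ^ (2 * i)) b ≠ z) : swapFun x a b z = z := by
  rw [swapFun, dif_neg (fun ⟨i, e⟩ => h1 i e), dif_neg (fun ⟨i, e⟩ => h2 i e)]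

lemma trichotomy (x : Perm α) (a b z : α) :
    (∃ i : ℤ, (x ^ (2 * i)) a = z) ∨ (∃ i : ℤ, (x ^ (2 * i)) b = z) ∨
      ((∀ i : ℤ, (x ^ (2 * i)) a ≠ z) ∧ ∀ i : ℤ, (x ^ (2 * i)) b ≠ z) := by
  by_cases h1 : ∃ i : ℤ, (x ^ (2 * i)) a = z
  · exact Or.inl h1
  by_cases h2 : ∃ i : ℤ, (x ^ (2 * i)) b = z
  · exact Or.inr (Or.inl h2)
  exact Or.inr (Or.inr ⟨fun i e => h1 ⟨i, e⟩, fun i e => h2 ⟨i, e⟩⟩)

lemma swapFun_involutive (h : CanSwap x a b) : Function.Involutive (swapFun x a b) := by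
  intro z
  rcases trichotomy x a b z with ⟨i, rfl⟩ | ⟨i, rfl⟩ | ⟨h1, h2⟩
  · rw [swapFun_left h, swapFun_right h]
  · rw [swapFun_right h, swapFun_left h]
  · rw [swapFun_other z h1 h2, swapFun_other z h1 h2]

/-- The involution exchanging `x ^ (2i) a` with `x ^ (2i) b`. -/
noncomputable def swapHalf (h : CanSwap x a b) : Perm α :=
  (swapFun_involutive h).toPerm _

@[simp] lemma swapHalf_apply (h : CanSwap x a b) (z : α) : h.swapHalf z = swapFun x a b z := rfl

lemma swapHalf_left (h : CanSwap x a b) : h.swapHalf a = b := by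
  simpa using swapFun_left h 0

lemma swapHalf_right (h : CanSwap x a b) : h.swapHalf b = a := by
  simpa using swapFun_right h 0

lemma swapHalf_sq (h : CanSwap x a b) : h.swapHalf * h.swapHalf = 1 := by
  ext z
  exact swapFun_involutive h z

lemma swapHalf_moved (h : CanSwap x a b) {z : α} (hz : h.swapHalf z ≠ z) :
    ∃ i : ℤ, (x ^ (2 * i)) a = z ∨ (x ^ (2 * i)) b = z := by
  rcases trichotomy x a b z with ⟨i, e⟩ | ⟨i, e⟩ | ⟨h1, h2⟩
  · exact ⟨i, Or.inl e⟩
  · exact ⟨i, Or.inr e⟩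
  · exact absurd (swapFun_other z h1 h2) hz

lemma conj_swapHalf (h : CanSwap x a b) {g : Perm α} (hg : Commute g x) :
    g * h.swapHalf * g⁻¹ = (h.map hg).swapHalf := by
  rw [mul_inv_eq_iff_eq_mul]
  ext z
  have key : ∀ (k : ℤ) (c : α), (x ^ k) (g c) = g ((x ^ k) c) := fun k c => by
    rw [← Perm.mul_apply, ← (hg.zpow_right k).eq, Perm.mul_apply]
  simp only [Perm.mul_apply, swapHalf_apply]
  rcases trichotomy x a b z with ⟨i, rfl⟩ | ⟨i, rfl⟩ | ⟨h1, h2⟩
  · rw [swapFun_left h, ← key, ← key, swapFun_left (h.map hg)]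
  · rw [swapFun_right h, ← key, ← key, swapFun_right (h.map hg)]
  · rw [swapFun_other z h1 h2, swapFun_other (g z) (fun i e => h1 i ?_) (fun i e => h2 i ?_)]
    · exact g.injective (by rw [← key]; exact e)
    · exact g.injective (by rw [← key]; exact e)

lemma swapHalf_shift (h : CanSwap x a b) (h' : CanSwap x ((x ^ (2 : ℤ)) a) ((x ^ (2 : ℤ)) b)) :
    h'.swapHalf = h.swapHalf := by
  have e : ∀ (i : ℤ) (c : α), (x ^ (2 * i)) c = (x ^ (2 * (i - 1))) ((x ^ (2 : ℤ)) c) := fun i c => by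
    rw [← Perm.mul_apply, ← zpow_add]
    congr 2
    ring
  ext z
  simp only [swapHalf_apply]
  rcases trichotomy x a b z with ⟨i, rfl⟩ | ⟨i, rfl⟩ | ⟨h1, h2⟩
  · rw [swapFun_left h, e i a, e i b, swapFun_left h']
  · rw [swapFun_right h, e i a, e i b, swapFun_right h']
  · rw [swapFun_other z h1 h2, swapFun_other z (fun i he => h1 (i + 1) ?_)
      (fun i he => h2 (i + 1) ?_)]
    · rw [e (i + 1), add_sub_cancel_right]; exact he
    · rw [e (i + 1), add_sub_cancel_right]; exact he

lemma commute_shift (h : CanSwap x a b) :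
    Commute h.swapHalf (h.map (Commute.refl x)).swapHalf := by
  refine Perm.Disjoint.commute fun z => ?_
  by_contra hh
  push Not at hh
  obtain ⟨i, hi⟩ := h.swapHalf_moved hh.1
  obtain ⟨j, hj⟩ := (h.map (Commute.refl x)).swapHalf_moved hh.2
  have e : ∀ c : α, (x ^ (2 * j)) (x c) = (x ^ (2 * j + 1)) c := fun c => by
    rw [zpow_add_one, Perm.mul_apply]
  rw [e, e] at hj
  rcases hi with rfl | rfl <;> rcases hj with hj | hj
  · exact h.parity _ _ hj.symm
  · exact h.ne' _ _ hj.symm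
  · exact h.ne' _ _ hj
  · exact h.symm.parity _ _ hj.symm

end CanSwap

variable [Finite α]

omit [Finite α] in
lemma isPGroup_zpowers_of_sq {g : Perm α} (h : g * g = 1) :
    IsPGroup 2 (Subgroup.zpowers g) := by
  obtain ⟨i, -, hi⟩ := (Nat.dvd_prime_pow Nat.prime_two).1
    (show orderOf g ∣ 2 ^ 1 from orderOf_dvd_of_pow_eq_one (by rw [pow_one, pow_two, h]))
  exact IsPGroup.of_card (n := i) (by rw [Nat.card_zpowers, hi])

variable {x : Perm α} (hx : ∃ k : ℕ, orderOf x = 2 ^ k)

include hx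

omit [Finite α] in
lemma isPGroup_zpowers : IsPGroup 2 (Subgroup.zpowers x) := by
  obtain ⟨k, hk⟩ := hx
  exact IsPGroup.of_card (n := k) (by rw [Nat.card_zpowers, hk])

/-- A half-cycle swap lies in a Sylow 2-subgroup together with `x`. -/
lemma exists_sylow_swapHalf {a b : α} (h : CanSwap x a b) :
    ∃ P : Sylow 2 (Perm α), x ∈ P ∧ h.swapHalf ∈ P := by
  set s := h.swapHalf with hs
  set s' := (h.map (Commute.refl x)).swapHalf with hs'
  have hc : Commute s s' := h.commute_shift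
  have hcent : Subgroup.zpowers s ≤ Subgroup.normalizer ((Subgroup.zpowers s' : Subgroup (Perm α)) : Set (Perm α)) := by
    rw [Subgroup.zpowers_le, Subgroup.mem_normalizer_iff_map_conj_eq, MonoidHom.map_zpowers]
    show Subgroup.zpowers (s * s' * s⁻¹) = _
    rw [hc.eq, mul_inv_cancel_right]
  have hE : IsPGroup 2 (Subgroup.zpowers s ⊔ Subgroup.zpowers s' : Subgroup (Perm α)) :=
    (isPGroup_zpowers_of_sq h.swapHalf_sq).to_sup_of_normal_right'
      (isPGroup_zpowers_of_sq (CanSwap.swapHalf_sq _)) hcent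
  have e1 : x * s * x⁻¹ = s' := h.conj_swapHalf (Commute.refl x)
  have e2 : x * s' * x⁻¹ = s := by
    rw [hs', CanSwap.conj_swapHalf _ (Commute.refl x)]
    have h2 : (x ^ (2 : ℤ)) a = x (x a) ∧ (x ^ (2 : ℤ)) b = x (x b) := by
      rw [show (2 : ℤ) = 1 + 1 from rfl, zpow_add, zpow_one]
      exact ⟨rfl, rfl⟩
    have h' : CanSwap x ((x ^ (2 : ℤ)) a) ((x ^ (2 : ℤ)) b) := h.map (Commute.zpow_self x 2)
    rw [hs, ← h.swapHalf_shift h']
    ext z
    simp only [CanSwap.swapHalf_apply, h2.1, h2.2]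
  have hn : Subgroup.zpowers x ≤ Subgroup.normalizer
      ((Subgroup.zpowers s ⊔ Subgroup.zpowers s' : Subgroup (Perm α)) : Set (Perm α)) := by
    rw [Subgroup.zpowers_le, Subgroup.mem_normalizer_iff_map_conj_eq, Subgroup.map_sup,
      MonoidHom.map_zpowers, MonoidHom.map_zpowers]
    show Subgroup.zpowers (x * s * x⁻¹) ⊔ Subgroup.zpowers (x * s' * x⁻¹) = _
    rw [e1, e2, sup_comm]
  obtain ⟨P, hP⟩ := ((isPGroup_zpowers hx).to_sup_of_normal_right' hE hn).exists_le_sylow
  exact ⟨P, hP (Subgroup.mem_sup_left (Subgroup.mem_zpowers x)),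
    hP (Subgroup.mem_sup_right (Subgroup.mem_sup_left (Subgroup.mem_zpowers s)))⟩

/-- A swap of two fixed points lies in a Sylow 2-subgroup together with `x`. -/
lemma exists_sylow_swap [DecidableEq α] {a b : α} (ha : x a = a) (hb : x b = b) :
    ∃ P : Sylow 2 (Perm α), x ∈ P ∧ Equiv.swap a b ∈ P := by
  have e : x * Equiv.swap a b * x⁻¹ = Equiv.swap a b := by
    rw [mul_inv_eq_iff_eq_mul]
    ext z
    simp only [Perm.mul_apply]
    rw [← x.injective.swap_apply, ha, hb]
  have hn : Subgroup.zpowers x ≤ Subgroup.normalizer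
      ((Subgroup.zpowers (Equiv.swap a b) : Subgroup (Perm α)) : Set (Perm α)) := by
    rw [Subgroup.zpowers_le, Subgroup.mem_normalizer_iff_map_conj_eq, MonoidHom.map_zpowers]
    show Subgroup.zpowers (x * Equiv.swap a b * x⁻¹) = _
    rw [e]
  obtain ⟨P, hP⟩ := ((isPGroup_zpowers hx).to_sup_of_normal_right'
    (isPGroup_zpowers_of_sq (Equiv.swap_mul_self a b)) hn).exists_le_sylow
  exact ⟨P, hP (Subgroup.mem_sup_left (Subgroup.mem_zpowers x)),
    hP (Subgroup.mem_sup_right (Subgroup.mem_zpowers _))⟩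

omit [Finite α] hx in
/-- An element of a `2`-group has no cycle of length three. -/
lemma no_three_cycle {P : Sylow 2 (Perm α)} {g : Perm α} (hg : g ∈ P) {a b c : α}
    (hab : a ≠ b) (_hac : a ≠ c) (h1 : g a = b) (h2 : g b = c) (h3 : g c = a) : False := by
  obtain ⟨j, hj⟩ := P.2 ⟨g, hg⟩
  have hj' : g ^ 2 ^ j = 1 := by simpa using congrArg Subtype.val hj
  have hper : MulAction.period g a ∣ 3 := by
    rw [← MulAction.pow_smul_eq_iff_period_dvd]
    show (g ^ 3) a = a
    simp [pow_succ, h1, h2, h3]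
  have hper2 : MulAction.period g a ∣ 2 ^ j := by
    rw [← MulAction.pow_smul_eq_iff_period_dvd, hj', one_smul]
  have := Nat.eq_one_of_dvd_coprimes (Nat.Coprime.pow_right j (by decide : Nat.Coprime 3 2)) hper hper2
  rw [MulAction.period_eq_one_iff] at this
  exact hab (by rw [← h1]; exact this.symm)

/-- Necessity. -/
theorem good_of_unique (hu : ∀ P Q : Sylow 2 (Perm α), x ∈ P → x ∈ Q → P = Q) : Good x := by
  classical
  refine ⟨fun a b c ha hb hc => ?_, fun a b ha hb hper => ?_⟩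
  · by_contra hh
    push Not at hh
    obtain ⟨P, hxP, hs⟩ := exists_sylow_swap hx ha hb
    obtain ⟨Q, hxQ, ht⟩ := exists_sylow_swap hx hb hc
    obtain rfl := hu P Q hxP hxQ
    refine no_three_cycle (Subgroup.mul_mem _ hs ht) hh.1 hh.2.1 ?_ ?_ ?_
    · rw [Perm.mul_apply, Equiv.swap_apply_of_ne_of_ne hh.1 hh.2.1, Equiv.swap_apply_left]
    · rw [Perm.mul_apply, Equiv.swap_apply_left,
        Equiv.swap_apply_of_ne_of_ne (Ne.symm hh.2.1) (Ne.symm hh.2.2)]
    · rw [Perm.mul_apply, Equiv.swap_apply_right, Equiv.swap_apply_right]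
  · by_contra hne
    have h : CanSwap x a b :=
      { ne := fun k e => hne ⟨k, e⟩
        per := fun k => by rw [zpow_apply_eq_iff, zpow_apply_eq_iff, hper]
        even := fun k e => by
          rw [zpow_apply_eq_iff] at e
          obtain ⟨j, hj⟩ := hx
          obtain ⟨i, -, hi⟩ := (Nat.dvd_prime_pow Nat.prime_two).1
            (hj ▸ MulAction.period_dvd_orderOf x a)
          rcases i with _ | i
          · exact absurd (MulAction.period_eq_one_iff.1 (by simpa using hi)) ha
          · rw [even_iff_two_dvd]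
            exact dvd_trans (Int.natCast_dvd_natCast.2 (hi ▸ dvd_pow_self 2 i.succ_ne_zero)) e }
    -- `b` and `x a` can be swapped as well
    have h' : CanSwap x b (x a) :=
      { ne := fun k e => h.ne' 1 k (by rw [zpow_one]; exact e.symm)
        per := fun k => by
          rw [← h.per k]
          have := (zpow_apply_eq_zpow_iff x a (k + 1) 1).trans (by rw [add_sub_cancel_right])
          rw [zpow_add_one, Perm.mul_apply, zpow_one] at this
          exact this.symm
        even := h.symm.even }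
    obtain ⟨P, hxP, hs⟩ := exists_sylow_swapHalf hx h
    obtain ⟨Q, hxQ, ht⟩ := exists_sylow_swapHalf hx h'
    obtain rfl := hu P Q hxP hxQ
    have hab : a ≠ b := fun e => h.ne 0 (by simpa using e)
    refine no_three_cycle (c := x a) (Subgroup.mul_mem _ hs ht) hab (Ne.symm ha) ?_ ?_ ?_
    · rw [Perm.mul_apply, show h'.swapHalf a = a from ?_, h.swapHalf_left]
      by_contra hm
      obtain ⟨i, hi⟩ := h'.swapHalf_moved hm
      rcases hi with hi | hi
      · exact h.ne' 0 (2 * i) (by simpa using hi.symm)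
      · refine h.parity 0 i ?_
        rw [zpow_add_one, Perm.mul_apply]
        simpa using hi.symm
    · rw [Perm.mul_apply, h'.swapHalf_left]
      by_contra hm
      obtain ⟨i, hi⟩ := h.swapHalf_moved hm
      rcases hi with hi | hi
      · exact h.parity i 0 (by simpa using hi)
      · exact h.ne' 1 (2 * i) (by simpa using hi.symm)
    · rw [Perm.mul_apply, h'.swapHalf_right, h.swapHalf_right]

end Cfsg.Agent.Lib.UniqueSylowPerm
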