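import Mathlib
import Cfsg.Agent.Lib.UniqueSylowPerm.Nec
import Cfsg.Agent.Lib.SylowTwoPerm.Basic

/-!
# Two-elements of symmetric groups in a unique Sylow 2-subgroup: sufficiency
-/

set_option autoImplicit false

namespace Cfsg.Agent.Lib.UniqueSylowPerm

open Equiv Cfsg.Agent.Lib.SylowTwoPerm
open scoped Pointwise

variable {α β : Type*}

lemma zpow_permCongrHom (e : α ≃ β) (x : Perm α) (k : ℤ) (a : α) :
    ((Equiv.permCongrHom e x) ^ k) (e a) = e ((x ^ k) a) := by
  rw [← map_zpow]
  simp [Equiv.permCongrHom, Equiv.permCongr_apply]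

lemma period_permCongrHom (e : α ≃ β) (x : Perm α) (a : α) :
    MulAction.period (Equiv.permCongrHom e x) (e a) = MulAction.period x a := by
  have key : ∀ k : ℤ, (MulAction.period (Equiv.permCongrHom e x) (e a) : ℤ) ∣ k ↔
      (MulAction.period x a : ℤ) ∣ k := by
    intro k
    rw [← zpow_apply_eq_iff, ← zpow_apply_eq_iff, zpow_permCongrHom, e.injective.eq_iff]
  exact Nat.dvd_antisymm (Int.natCast_dvd_natCast.1 ((key _).2 dvd_rfl))
    (Int.natCast_dvd_natCast.1 ((key _).1 dvd_rfl))

lemma Good.congr (e : α ≃ β) {x : Perm α} (h : Good x) : Good (Equiv.permCongrHom e x) := by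
  have happ : ∀ a, Equiv.permCongrHom e x (e a) = e (x a) := fun a => by
    simp [Equiv.permCongrHom, Equiv.permCongr_apply]
  refine ⟨fun a b c ha hb hc => ?_, fun a b ha hb hab => ?_⟩
  · obtain ⟨a, rfl⟩ := e.surjective a
    obtain ⟨b, rfl⟩ := e.surjective b
    obtain ⟨c, rfl⟩ := e.surjective c
    rw [happ, e.injective.eq_iff] at ha hb hc
    simpa [e.injective.eq_iff] using h.1 a b c ha hb hc
  · obtain ⟨a, rfl⟩ := e.surjective a
    obtain ⟨b, rfl⟩ := e.surjective b
    rw [ne_eq, happ, e.injective.eq_iff] at ha hb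
    rw [period_permCongrHom, period_permCongrHom] at hab
    obtain ⟨k, hk⟩ := h.2 a b ha hb hab
    exact ⟨k, by rw [zpow_permCongrHom, hk]⟩

/-- For a good `x` there is at most one involution with at most one fixed point commuting with
`x`. -/
lemma involution_unique {x z z' : Perm α} (hx : Good x)
    (hz2 : ∀ a, z (z a) = a) (hz2' : ∀ a, z' (z' a) = a)
    (hz : Commute x z) (hz' : Commute x z')
    (hf : ∀ a b, z a = a → z b = b → a = b) (hf' : ∀ a b, z' a = a → z' b = b → a = b) :
    z = z' := by
  ext a
  by_cases ha : x a = a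
  · -- `z` and `z'` act on the fixed points of `x`
    have fixz : ∀ {w : Perm α}, Commute x w → ∀ c, x c = c → x (w c) = w c := by
      intro w hw c hc
      rw [← Perm.mul_apply, hw.eq, Perm.mul_apply, hc]
    have key : ∀ {w w' : Perm α}, Commute x w → Commute x w' →
        (∀ c d, w c = c → w d = d → c = d) → w a = a → w' a = a := by
      intro w w' hw hw' hfw hwa
      by_contra hne
      set b := w' a with hb
      have hxb : x b = b := fixz hw' a ha
      rcases hx.1 a b (w b) ha hxb (fixz hw b hxb) with e | e | e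
      · exact hne e.symm
      · exact hne (w.injective (hwa.trans e)).symm
      · exact hne (hfw b a e.symm hwa)
    by_cases h1 : z a = a
    · rw [h1, key hz hz' hf h1]
    · have h1' : z' a ≠ a := fun e => h1 (key hz' hz hf' e)
      rcases hx.1 a (z a) (z' a) ha (fixz hz a ha) (fixz hz' a ha) with e | e | e
      · exact absurd e.symm h1
      · exact absurd e.symm h1'
      · exact e
  · -- on a non-trivial cycle both are the half turn
    have half : ∀ {w : Perm α}, Commute x w → (∀ c, w (w c) = c) →
        (∀ c d, w c = c → w d = d → c = d) →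
        ∃ k : ℤ, w a = (x ^ k) a ∧ (MulAction.period x a : ℤ) ∣ 2 * k ∧
          ¬ (MulAction.period x a : ℤ) ∣ k := by
      intro w hw hw2 hfw
      have hcomm : ∀ (k : ℤ) c, (x ^ k) (w c) = w ((x ^ k) c) := fun k c => by
        rw [← Perm.mul_apply, (hw.zpow_left k).eq, Perm.mul_apply]
      have hxw : x (w a) ≠ w a := by
        intro e
        apply ha
        have := hcomm 1 a
        rw [zpow_one, e] at this
        exact (w.injective this).symm
      have hper : MulAction.period x a = MulAction.period x (w a) := by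
        have key : ∀ k : ℤ, (MulAction.period x a : ℤ) ∣ k ↔
            (MulAction.period x (w a) : ℤ) ∣ k := by
          intro k
          rw [← zpow_apply_eq_iff, ← zpow_apply_eq_iff, hcomm, w.injective.eq_iff]
        exact Nat.dvd_antisymm (Int.natCast_dvd_natCast.1 ((key _).2 dvd_rfl))
          (Int.natCast_dvd_natCast.1 ((key _).1 dvd_rfl))
      obtain ⟨k, hk⟩ := hx.2 a (w a) ha hxw hper
      refine ⟨k, hk.symm, ?_, ?_⟩
      · rw [← zpow_apply_eq_iff, two_mul, zpow_add, Perm.mul_apply, hk, hcomm, hk, hw2]
      · rw [← zpow_apply_eq_iff, hk]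
        intro e
        refine ha (hfw (x a) a ?_ e)
        have := hcomm 1 a
        rw [zpow_one, e] at this
        exact this.symm
    obtain ⟨k, hk, hk2, hk1⟩ := half hz hz2 hf
    obtain ⟨k', hk', hk2', hk1'⟩ := half hz' hz2' hf'
    rw [hk, hk', zpow_apply_eq_zpow_iff, zpow_apply_eq_iff]
    obtain ⟨u, hu⟩ := hk2
    obtain ⟨v, hv⟩ := hk2'
    obtain ⟨u', hu'⟩ : Odd u := by
      rw [← Int.not_even_iff_odd]
      rintro ⟨t, rfl⟩
      exact hk1 ⟨t, by linarith⟩
    obtain ⟨v', hv'⟩ : Odd v := by
      rw [← Int.not_even_iff_odd]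
      rintro ⟨t, rfl⟩
      exact hk1' ⟨t, by linarith⟩
    exact ⟨u' - v', by subst hu' hv'; linarith⟩

section Pairs

variable {m r : ℕ}

lemma flip2_fix_unique (hr : r ≤ 1) (a b : Pairs m r) (ha : flip2 m r a = a)
    (hb : flip2 m r b = b) : a = b := by
  rcases a with ⟨i, c⟩ | k
  · simp at ha
  rcases b with ⟨j, d⟩ | l
  · simp at hb
  exact congrArg Sum.inr (Fin.ext (by omega))

lemma commute_flip2 {g : Perm (Pairs m r)} (hg : g ∈ pairCent m r) : Commute g (flip2 m r) :=
  Subgroup.mem_centralizer_singleton_iff.1 hg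

/-- Powers of an element of the centraliser act on the pairs as the powers of its image. -/
lemma zpow_inl (g : pairCent m r) (k : ℤ) (i : Fin m) (b : Bool) :
    ∃ c, ((g : Perm (Pairs m r)) ^ k) (Sum.inl (i, b)) =
      Sum.inl (((blockHom m r g) ^ k) i, c) := by
  obtain ⟨c, hc⟩ := blockMap_spec ((g ^ k : pairCent m r)).2 i b
  refine ⟨c, ?_⟩
  rw [← map_zpow, blockHom_apply]
  rw [Subgroup.coe_zpow] at hc ⊢
  exact hc

lemma Good.blockHom {g : pairCent m r} (hg : Good (g : Perm (Pairs m r))) :
    Good (blockHom m r g) := by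
  set x := (g : Perm (Pairs m r)) with hxdef
  set y := Cfsg.Agent.Lib.SylowTwoPerm.blockHom m r g with hydef
  have hflip : ∀ (k : ℤ) z, (x ^ k) (flip2 m r z) = flip2 m r ((x ^ k) z) := fun k z => by
    rw [← Perm.mul_apply, ((commute_flip2 g.2).zpow_left k).eq, Perm.mul_apply]
  refine ⟨fun i j l hi hj hl => ?_, fun i j hi hj hij => ?_⟩
  · -- a fixed pair is either fixed pointwise or a `2`-cycle
    by_contra hh
    push Not at hh
    have cases : ∀ i, y i = i → (∀ b, x (Sum.inl (i, b)) = Sum.inl (i, b)) ∨
        (∀ b, x (Sum.inl (i, b)) = Sum.inl (i, !b)) := by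
      intro i hi
      obtain ⟨c, hc⟩ := zpow_inl g 1 i false
      rw [zpow_one, zpow_one, ← hydef, hi] at hc
      have h' := hflip 1 (Sum.inl (i, false))
      rw [zpow_one, hc, flip2_inl, flip2_inl] at h'
      cases c
      · exact Or.inl fun b => by cases b <;> [exact hc; exact h']
      · exact Or.inr fun b => by cases b <;> [exact hc; exact h']
    have fixpair : ∀ i j, i ≠ j → (∀ b, x (Sum.inl (i, b)) = Sum.inl (i, b)) →
        (∀ b, x (Sum.inl (j, b)) = Sum.inl (j, b)) → False := by
      intro i j hij h1 h2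
      rcases hg.1 _ _ _ (h1 false) (h1 true) (h2 false) with e | e | e <;> simp at e <;>
        exact hij e
    have swappair : ∀ i j, i ≠ j → (∀ b, x (Sum.inl (i, b)) = Sum.inl (i, !b)) →
        (∀ b, x (Sum.inl (j, b)) = Sum.inl (j, !b)) → False := by
      intro i j hij h1 h2
      have per2 : ∀ i, (∀ b, x (Sum.inl (i, b)) = Sum.inl (i, !b)) →
          MulAction.period x (Sum.inl (i, false) : Pairs m r) = 2 := by
        intro i h
        have hd : MulAction.period x (Sum.inl (i, false) : Pairs m r) ∣ 2 := by
          rw [← MulAction.pow_smul_eq_iff_period_dvd, pow_two, mul_smul]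
          show x (x _) = _
          rw [h, h, Bool.not_not]
        refine ((Nat.dvd_prime Nat.prime_two).1 hd).resolve_left fun e => ?_
        rw [MulAction.period_eq_one_iff, Perm.smul_def, h] at e
        simp at e
      obtain ⟨k, hk⟩ := hg.2 (Sum.inl (i, false)) (Sum.inl (j, false)) (by simp [h1])
        (by simp [h2]) ((per2 i h1).trans (per2 j h2).symm)
      obtain ⟨c, hc⟩ := zpow_inl g k i false
      rw [hk] at hc
      have hfix : (y ^ k) i = i := by
        rw [zpow_apply_eq_iff]
        have h1' : y i = i := by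
          obtain ⟨c, hc⟩ := zpow_inl g 1 i false
          rw [zpow_one, zpow_one, ← hxdef, h1] at hc
          simp at hc
          exact hc.1.symm
        rw [MulAction.period_eq_one_iff.2 h1', Nat.cast_one]
        exact one_dvd _
      rw [← hydef, hfix] at hc
      simp at hc
      exact hij hc.1.symm
    rcases cases i hi with a | a <;> rcases cases j hj with b | b <;>
      rcases cases l hl with c | c
    all_goals first
      | exact fixpair i j hh.1 a b
      | exact swappair i j hh.1 a b
      | exact fixpair i l hh.2.1 a c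
      | exact swappair i l hh.2.1 a c
      | exact fixpair j l hh.2.2 b c
      | exact swappair j l hh.2.2 b c
  · -- periods double
    have key : ∀ i, y i ≠ i → x (Sum.inl (i, false)) ≠ Sum.inl (i, false) ∧
        MulAction.period x (Sum.inl (i, false) : Pairs m r) = 2 * MulAction.period y i := by
      intro i hi
      have hmoved : x (Sum.inl (i, false)) ≠ Sum.inl (i, false) := by
        intro e
        apply hi
        obtain ⟨c, hc⟩ := zpow_inl g 1 i false
        rw [zpow_one, zpow_one, ← hxdef, e] at hc
        simp at hc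
        exact hc.1.symm
      refine ⟨hmoved, ?_⟩
      set a : Pairs m r := Sum.inl (i, false) with hadef
      set d := MulAction.period y i
      have hflipa : flip2 m r a ≠ a := by simp [hadef]
      -- the flip is a power of `x` on the cycle of `a`
      have hxflip : x (flip2 m r a) ≠ flip2 m r a := by
        intro e
        have := hflip 1 a
        rw [zpow_one, e] at this
        exact hmoved ((flip2 m r).injective this).symm
      have hperflip : MulAction.period x a = MulAction.period x (flip2 m r a) := by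
        have key : ∀ k : ℤ, (MulAction.period x a : ℤ) ∣ k ↔
            (MulAction.period x (flip2 m r a) : ℤ) ∣ k := by
          intro k
          rw [← zpow_apply_eq_iff, ← zpow_apply_eq_iff, hflip, (flip2 m r).injective.eq_iff]
        exact Nat.dvd_antisymm (Int.natCast_dvd_natCast.1 ((key _).2 dvd_rfl))
          (Int.natCast_dvd_natCast.1 ((key _).1 dvd_rfl))
      obtain ⟨h, hh⟩ := hg.2 a _ hmoved hxflip hperflip
      have hdh : (d : ℤ) ∣ h := by
        rw [← zpow_apply_eq_iff]
        obtain ⟨c, hc⟩ := zpow_inl g h i false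
        rw [← hxdef, ← hadef, hh] at hc
        simp [hadef] at hc
        exact hc.1.symm
      obtain ⟨c, hc⟩ := zpow_inl g (d : ℤ) i false
      have hyd : (y ^ (d : ℤ)) i = i := (zpow_apply_eq_iff _ _ _).2 dvd_rfl
      rw [← hydef, ← hxdef, ← hadef, hyd] at hc
      have hxd : (x ^ (d : ℤ)) a = flip2 m r a := by
        cases c
        · exfalso
          apply hflipa
          rw [← hadef] at hc
          rw [← hh]
          exact (zpow_apply_eq_iff _ _ _).2 (dvd_trans ((zpow_apply_eq_iff _ _ _).1 hc) hdh)
        · rw [hc, hadef, flip2_inl, Bool.not_false]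
      refine Nat.dvd_antisymm (Int.natCast_dvd_natCast.1 ?_) ?_
      · rw [← zpow_apply_eq_iff, Nat.cast_mul, Nat.cast_ofNat, two_mul, zpow_add, Perm.mul_apply,
          hxd, hflip, hxd, flip2_flip2]
      · have hdP : (d : ℤ) ∣ MulAction.period x a := by
          rw [← zpow_apply_eq_iff]
          obtain ⟨c', hc'⟩ := zpow_inl g (MulAction.period x a : ℤ) i false
          rw [← hxdef, ← hadef, (zpow_apply_eq_iff x a _).2 dvd_rfl, hadef] at hc'
          simp at hc'
          exact hc'.1.symm
        obtain ⟨t, ht⟩ := Int.natCast_dvd_natCast.1 hdP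
        rcases Nat.even_or_odd t with ⟨s, rfl⟩ | ⟨s, rfl⟩
        · exact ⟨s, by rw [ht]; ring⟩
        · exfalso
          apply hflipa
          have h2d : (x ^ (((2 * s : ℕ) : ℤ) * d)) a = a := by
            rw [zpow_apply_eq_iff]
            have h2 : (MulAction.period x a : ℤ) ∣ 2 * (d : ℤ) := by
              rw [← zpow_apply_eq_iff, two_mul, zpow_add, Perm.mul_apply, hxd, hflip, hxd,
                flip2_flip2]
            exact dvd_trans h2 ⟨s, by push_cast; ring⟩
          have hP := (zpow_apply_eq_iff x a _).2 (dvd_refl (MulAction.period x a : ℤ))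
          rw [ht, show ((d * (2 * s + 1) : ℕ) : ℤ) = (d : ℤ) + ((2 * s : ℕ) : ℤ) * d by
            push_cast; ring, zpow_add, Perm.mul_apply, h2d, hxd] at hP
          exact hP
    obtain ⟨hmi, hpi⟩ := key i hi
    obtain ⟨hmj, hpj⟩ := key j hj
    obtain ⟨k, hk⟩ := hg.2 _ _ hmi hmj (by rw [hpi, hpj, hij])
    refine ⟨k, ?_⟩
    obtain ⟨c, hc⟩ := zpow_inl g k i false
    rw [hk] at hc
    simp at hc
    exact hc.1.symm

end Pairs

/-- Sufficiency. -/
theorem unique_of_good (n : ℕ) : ∀ x : Perm (Fin n), Good x →
    ∀ P Q : Sylow 2 (Perm (Fin n)), x ∈ P → x ∈ Q → P = Q := by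
  induction n using Nat.strong_induction_on with
  | _ n ih =>
    intro x hx P Q hP hQ
    rcases Nat.lt_or_ge n 2 with hn | hn
    · have : Subsingleton (Fin n) := Fin.subsingleton_iff_le_one.mpr (by omega)
      exact Sylow.ext (Subsingleton.elim _ _)
    have hfact : Fact (Nat.Prime 2) := ⟨Nat.prime_two⟩
    obtain ⟨e⟩ := exists_equiv_pairs n
    set m := n / 2
    set r := n % 2
    have hr : r ≤ 1 := by omega
    have hs : Function.Surjective (Equiv.permCongrHom e).toMonoidHom :=
      (Equiv.permCongrHom e).surjective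
    suffices h : P.mapSurjective hs = Q.mapSurjective hs by
      refine Sylow.ext (Subgroup.map_injective (f := (Equiv.permCongrHom e).toMonoidHom)
        (Equiv.permCongrHom e).injective ?_)
      exact congrArg (fun S : Sylow 2 (Perm (Pairs m r)) => S.toSubgroup) h
    have hx' : Good (Equiv.permCongrHom e x) := hx.congr e
    have hP' : Equiv.permCongrHom e x ∈ P.mapSurjective hs := ⟨x, hP, rfl⟩
    have hQ' : Equiv.permCongrHom e x ∈ Q.mapSurjective hs := ⟨x, hQ, rfl⟩
    revert hP' hQ' hx'
    generalize P.mapSurjective hs = P', Q.mapSurjective hs = Q', Equiv.permCongrHom e x = x'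
    intro hx' hP' hQ'
    obtain ⟨S₀⟩ := (inferInstance : Nonempty (Sylow 2 (pairCent m r)))
    let SS : Subgroup (Perm (Pairs m r)) := (S₀ : Subgroup (pairCent m r)).map (pairCent m r).subtype
    have hcard : Nat.card SS = 2 ^ (Nat.card (Perm (Pairs m r))).factorization 2 := by
      rw [Subgroup.card_map_of_injective (pairCent m r).subtype_injective]
      exact card_sylow_cent hr S₀
    set S : Sylow 2 (Perm (Pairs m r)) := Sylow.ofCard SS hcard
    obtain ⟨g, rfl⟩ := MulAction.exists_smul_eq (Perm (Pairs m r)) S P'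
    obtain ⟨g', rfl⟩ := MulAction.exists_smul_eq (Perm (Pairs m r)) S Q'
    have hmem : ∀ g : Perm (Pairs m r), x' ∈ g • S → g⁻¹ * x' * g ∈ SS := by
      intro g hg
      have h0 : x' ∈ MulAut.conj g • SS := hg
      rw [Subgroup.mem_pointwise_smul_iff_inv_smul_mem] at h0
      simpa [MulAut.smul_def, mul_assoc] using h0
    have hSSle : SS ≤ pairCent m r := Subgroup.map_subtype_le _
    have hflip2 : flip2 m r * flip2 m r = 1 := Equiv.ext flip2_flip2
    -- the two involutions agree
    have hcomm : ∀ g : Perm (Pairs m r), x' ∈ g • S →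
        Commute x' (g * flip2 m r * g⁻¹) := by
      intro g hg
      have := commute_flip2 (hSSle (hmem g hg))
      have h2 := this.map (MulAut.conj g).toMonoidHom
      simpa [mul_assoc] using h2
    have hinv : ∀ (g : Perm (Pairs m r)) a,
        (g * flip2 m r * g⁻¹) ((g * flip2 m r * g⁻¹) a) = a := by
      intro g a
      simp [Perm.mul_apply, flip2_flip2]
    have hfix : ∀ (g : Perm (Pairs m r)) a b, (g * flip2 m r * g⁻¹) a = a →
        (g * flip2 m r * g⁻¹) b = b → a = b := by
      intro g a b ha hb
      refine (g⁻¹).injective (flip2_fix_unique hr _ _ (g.injective ?_) (g.injective ?_))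
      · simpa [Perm.mul_apply] using ha
      · simpa [Perm.mul_apply] using hb
    have heq := involution_unique hx' (hinv g) (hinv g') (hcomm g hP') (hcomm g' hQ') (hfix g)
      (hfix g')
    have hc : g⁻¹ * g' ∈ pairCent m r := by
      rw [pairCent, Subgroup.mem_centralizer_singleton_iff]
      calc g⁻¹ * g' * flip2 m r = g⁻¹ * (g' * flip2 m r * g'⁻¹) * g' := by group
        _ = g⁻¹ * (g * flip2 m r * g⁻¹) * g' := by rw [heq]
        _ = _ := by group
    set c : pairCent m r := ⟨g⁻¹ * g', hc⟩
    -- both conjugates are Sylow subgroups of the centraliser containing the kernel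
    set y : pairCent m r := ⟨g⁻¹ * x' * g, hSSle (hmem g hP')⟩ with hydef
    have hy0 : y ∈ S₀ := by
      obtain ⟨w, hw, hwe⟩ := hmem g hP'
      rwa [show y = w from Subtype.ext hwe.symm]
    have hy1 : y ∈ c • S₀ := by
      obtain ⟨w, hw, hwe⟩ := hmem g' hQ'
      have e : MulAut.conj c w = y := by
        apply Subtype.ext
        simp only [MulAut.conj_apply, Subgroup.coe_mul, Subgroup.coe_inv, hydef, c]
        rw [show ((w : pairCent m r) : Perm (Pairs m r)) = g'⁻¹ * x' * g' from hwe]
        group
      rw [← e]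
      exact Subgroup.smul_mem_pointwise_smul w _ _ hw
    have hgood : Good (blockHom m r y) := by
      refine Good.blockHom ?_
      have : (y : Perm (Pairs m r)) = Equiv.permCongrHom g⁻¹ x' := by
        ext a
        simp [hydef, Equiv.permCongrHom, Equiv.permCongr_apply, Perm.mul_apply]
      rw [this]
      exact hx'.congr _
    have hsame := ih m (by omega) _ hgood
      (S₀.mapSurjective (blockHom_surjective m r)) ((c • S₀).mapSurjective (blockHom_surjective m r))
      ⟨y, hy0, rfl⟩ ⟨y, hy1, rfl⟩
    have hmap : ((S₀ : Subgroup (pairCent m r))).map (blockHom m r) =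
        ((c • S₀ : Sylow 2 (pairCent m r)) : Subgroup (pairCent m r)).map (blockHom m r) :=
      congrArg (fun T : Sylow 2 (Perm (Fin m)) => T.toSubgroup) hsame
    have hS0 : S₀ = c • S₀ := by
      refine Sylow.ext ?_
      rw [← Subgroup.comap_map_eq_self (ker_le_sylow hr S₀), hmap,
        Subgroup.comap_map_eq_self (ker_le_sylow hr (c • S₀))]
    -- hence `g⁻¹ g'` normalises `S`
    have hcS : (g⁻¹ * g') • S = S := by
      apply Sylow.ext
      refine (Subgroup.eq_of_le_of_card_ge ?_ (le_of_eq ?_))
      · intro z hz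
        obtain ⟨z0, hz0, rfl⟩ := hz
        obtain ⟨w, hw, rfl⟩ := hz0
        refine ⟨MulAut.conj c w, ?_, rfl⟩
        show MulAut.conj c w ∈ S₀
        rw [hS0]
        exact Subgroup.smul_mem_pointwise_smul w _ _ hw
      · exact (Nat.card_congr (Sylow.equivSMul S (g⁻¹ * g')).toEquiv)
    calc g • S = g • ((g⁻¹ * g') • S) := by rw [hcS]
      _ = g' • S := by rw [smul_smul, mul_inv_cancel_left]

end Cfsg.Agent.Lib.UniqueSylowPerm
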